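import Groth.Agent.Etbc.H235.SecPull

/-!
# The degree-zero base change morphism for sheaves of sets on sections
-/

set_option autoImplicit false
universe u

open CategoryTheory CategoryTheory.Limits AlgebraicGeometry Opposite

namespace Groth.Agent.Etbc.H235.BCSec

open EtDesc Groth.Agent.Sga4A.EtStalk

section BC

variable {X S X' S' : Scheme.{u}} (f : X ⟶ S) (g : S' ⟶ S) (f' : X' ⟶ S') (g' : X' ⟶ X)
  (w : g' ≫ f = f' ≫ g)

/-- The defining property of the base change morphism. -/
theorem unit_baseChange0Sh (F : Sh X) :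
    (adjSh g).unit.app ((pushSh f).obj F) ≫
        (pushSh g).map (EtBC.baseChange0Sh f g f' g' w F) =
      (pushSh f).map ((adjSh g').unit.app F) ≫ (pushCompSh f g').hom.app _ ≫
        (EtBC.pushCongrSh w).hom.app _ ≫ (pushCompSh g f').inv.app _ := by
  exact ((adjSh g).homEquiv_unit _ _ _).symm.trans (Equiv.apply_symm_apply _ _)

/-- The comparison `(U ×_S S') ×_{S'} X' ⟶ (U ×_S X) ×_X X'`. -/
noncomputable def bcSq (U : S.Etale) :
    (EtCoh.bc f').obj ((EtCoh.bc g).obj U) ⟶ (EtCoh.bc g').obj ((EtCoh.bc f).obj U) :=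
  (MorphismProperty.Over.pullbackComp (P := EtCoh.etaleMP) (Q := ⊤) f' g).inv.app U ≫
    ((MorphismProperty.Over.pullbackCongr (P := EtCoh.etaleMP) (Q := ⊤) w) :
      EtCoh.bc (g' ≫ f) ≅ EtCoh.bc (f' ≫ g)).inv.app U ≫ bcComp g' f U

theorem map_map_map {T : Scheme.{u}} (G : Sh T) {A B C D : T.Etale} (a : A ⟶ B) (b : B ⟶ C)
    (c : C ⟶ D) (s : sect G D) :
    G.obj.map a.op (G.obj.map b.op (G.obj.map c.op s)) = G.obj.map (a ≫ b ≫ c).op s := by
  rw [op_comp, op_comp, Functor.map_comp, Functor.map_comp]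
  rfl

/-- The base change morphism on sections over `U ×_S S'` which come from `U`. -/
theorem baseChange0Sh_pullSect (F : Sh X) (U : S.Etale) (s : sect ((pushSh f).obj F) U) :
    (EtBC.baseChange0Sh f g f' g' w F).hom.app (op ((EtCoh.bc g).obj U))
        (pullSect g ((pushSh f).obj F) s) =
      ((pullSh g').obj F).obj.map (bcSq f g f' g' w U).op
        (pullSect g' F (U := (EtCoh.bc f).obj U) s) := by
  have h := unit_baseChange0Sh f g f' g' w F
  have h2 := congrArg (fun (b : (pushSh f).obj F ⟶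
    (pushSh g).obj ((pushSh f').obj ((pullSh g').obj F))) => b.hom.app (op U) s) h
  refine Eq.trans h2 ?_
  refine Eq.trans ?_ (map_map_map ((pullSh g').obj F) _ _ _ _)
  rfl

/-- The composite `Γ(S, f_* F) ⟶ Γ(S', g^* f_* F) ⟶ Γ(S', f'_* g'^* F)` is, up to the canonical
identifications, `Γ(X, F) ⟶ Γ(X', g'^* F)`. -/
theorem baseChange0Sh_secPull (F : Sh X) (s : sect F (EtCoh.top X)) :
    (EtBC.baseChange0Sh f g f' g' w F).hom.app (op (EtCoh.top S'))
        (secPull g ((pushSh f).obj F) (F.obj.map (EtCore.bcTopIso f).hom.op s)) =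
      ((pullSh g').obj F).obj.map (EtCore.bcTopIso f').hom.op (secPull g' F s) := by
  have nat : ∀ t, (EtBC.baseChange0Sh f g f' g' w F).hom.app (op (EtCoh.top S'))
      (((pullSh g).obj ((pushSh f).obj F)).obj.map (EtCore.bcTopIso g).inv.op t) =
      ((pushSh f').obj ((pullSh g').obj F)).obj.map (EtCore.bcTopIso g).inv.op
        ((EtBC.baseChange0Sh f g f' g' w F).hom.app (op ((EtCoh.bc g).obj (EtCoh.top S))) t) :=
    fun t => ConcreteCategory.congr_hom
      ((EtBC.baseChange0Sh f g f' g' w F).hom.naturality (EtCore.bcTopIso g).inv.op) t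
  have h1 := secPull_eq g ((pushSh f).obj F) (F.obj.map (EtCore.bcTopIso f).hom.op s)
  have h2 := congrArg ((EtBC.baseChange0Sh f g f' g' w F).hom.app (op (EtCoh.top S'))) h1
  refine h2.trans ((nat _).trans ?_)
  have h3 := baseChange0Sh_pullSect f g f' g' w F (EtCoh.top S)
    (F.obj.map (EtCore.bcTopIso f).hom.op s)
  have h4 := pullSect_res g' F (EtCore.bcTopIso f).hom s
  refine (congrArg (((pushSh f').obj ((pullSh g').obj F)).obj.map
    (EtCore.bcTopIso g).inv.op) (h3.trans (congrArg _ h4))).trans ?_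
  refine Eq.trans (map_map_map ((pullSh g').obj F) ((EtCoh.bc f').map (EtCore.bcTopIso g).inv)
    (bcSq f g f' g' w (EtCoh.top S)) ((EtCoh.bc g').map (EtCore.bcTopIso f).hom)
    (pullSect g' F s)) ?_
  have h5 : (EtCoh.bc f').map (EtCore.bcTopIso g).inv ≫ bcSq f g f' g' w (EtCoh.top S) ≫
      (EtCoh.bc g').map (EtCore.bcTopIso f).hom =
    (EtCore.bcTopIso f').hom ≫ (EtCore.bcTopIso g').inv := by
    rw [← cancel_mono (EtCore.bcTopIso g').hom]
    exact etale_top_hom_ext _ _
  rw [h5, op_comp, Functor.map_comp, secPull_eq]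
  rfl

end BC

end Groth.Agent.Etbc.H235.BCSec
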