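import Groth.Agent.Etbc.H235.BCSec
import Groth.Agent.Sga4A.PbcSet
import Groth.Agent.Sga4A.EtDescD

/-!
# Base change for sheaves of sets along universally closed morphisms

For a cartesian square on a universally closed morphism `f` such that sections over geometric
fibres extend to étale neighbourhoods (`BCsurj f`), the base change morphism for sheaves of sets
is an isomorphism.

* `germ_push_eq_iff`: equality of germs of `π_* G` at a geometric point is equality of germs of the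
  sections at the geometric points of the fibre.
* `mapStk_baseChange0Sh`: the base change morphism on stalks.
* `isIso_baseChange0Sh_of_bcsurj`.
-/

set_option autoImplicit false
universe u

open CategoryTheory CategoryTheory.Limits AlgebraicGeometry Opposite

namespace Groth.Agent.Etbc.H235.BCSets

open EtDesc Groth.Agent.Sga4A.EtStalk Groth.Agent.Etbc.H235.SecPull Groth.Agent.Etbc.H235.BCSec
  Groth.Agent.Sga4A.PbcAb Groth.Agent.Sga4A.PbcSet

section Push

variable {T S : Scheme.{u}} (π : T ⟶ S) (G : Sh T) {Ω : Type u} [Field Ω] [IsSepClosed Ω]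

theorem germ_congr_pt {X : Scheme.{u}} (F : Sh X)
    {ξ : Spec (.of Ω) ⟶ X} {U : X.Etale} {l l' : Spec (.of Ω) ⟶ U.left} (h : l = l')
    (hl : l ≫ U.hom = ξ) (hl' : l' ≫ U.hom = ξ) (s : sect F U) :
    germ F l hl s = germ F l' hl' s := by
  subst h; rfl

/-- A section over `U ×_S T` as a section of the direct image. -/
noncomputable def toPush {U : S.Etale} (a : sect G ((EtCoh.bc π).obj U)) :
    sect ((pushSh π).obj G) U := a

theorem toPush_res {U V : S.Etale} (k : V ⟶ U) (a : sect G ((EtCoh.bc π).obj U)) :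
    ((pushSh π).obj G).obj.map k.op (toPush π G a) =
      toPush π G (G.obj.map ((EtCoh.bc π).map k).op a) := rfl

theorem toPush_injective {U : S.Etale} : Function.Injective (toPush π G (U := U)) :=
  fun _ _ h => h

theorem exists_toPush {U : S.Etale} (s : sect ((pushSh π).obj G) U) :
    ∃ a, toPush π G a = s := ⟨s, rfl⟩

/-- Germs of a direct image determine the germs along the fibre. -/
theorem germ_eq_of_germ_push_eq {ξ : Spec (.of Ω) ⟶ S} {U : S.Etale}
    (l : Spec (.of Ω) ⟶ U.left) (hl : l ≫ U.hom = ξ) (a b : sect G ((EtCoh.bc π).obj U))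
    (h : germ ((pushSh π).obj G) l hl (toPush π G a) =
      germ ((pushSh π).obj G) l hl (toPush π G b))
    {Ω' : Type u} [Field Ω'] [IsSepClosed Ω'] (α : Spec (.of Ω') ⟶ Spec (.of Ω))
    (ζ : Spec (.of Ω') ⟶ ((EtCoh.bc π).obj U).left) (hζ : ζ ≫ bcFst π U = α ≫ l)
    (ρ : Spec (.of Ω') ⟶ T) (hρ : ζ ≫ ((EtCoh.bc π).obj U).hom = ρ) :
    germ G ζ hρ a = germ G ζ hρ b := by
  obtain ⟨V, k, m, hm, e⟩ := (germ_eq_iff ((pushSh π).obj G) l hl _ _).1 h
  have e' : G.obj.map ((EtCoh.bc π).map k).op a = G.obj.map ((EtCoh.bc π).map k).op b := e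
  have hk : k.left ≫ U.hom = V.hom := Over.w k.hom
  have hc : (α ≫ m) ≫ V.hom = ρ ≫ π := by
    have h1 : (ζ ≫ ((EtCoh.bc π).obj U).hom) ≫ π = (ζ ≫ bcFst π U) ≫ U.hom := by
      rw [Category.assoc, Category.assoc, bc_condition]
    rw [← hρ, h1, hζ, ← hk, ← hm, Category.assoc, Category.assoc, Category.assoc]
  have hpt : bcPt π ρ (α ≫ m) hc ≫ ((EtCoh.bc π).map k).left = ζ := by
    apply hom_ext_bc
    · rw [Category.assoc, bc_map_fst, bcPt_fst_assoc, Category.assoc, hm, hζ]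
    · rw [Category.assoc, bc_map_hom, bcPt_hom, hρ]
  rw [← germ_res' G ((EtCoh.bc π).map k) (bcPt π ρ (α ≫ m) hc) (bcPt_hom _ _ _ _) ζ hρ hpt a,
    ← germ_res' G ((EtCoh.bc π).map k) (bcPt π ρ (α ≫ m) hc) (bcPt_hom _ _ _ _) ζ hρ hpt b, e']

/-- Germs along the geometric fibre determine the germs of a direct image, for a universally closed
morphism. -/
theorem germ_push_eq_of_germ_eq [UniversallyClosed π] {ξ : Spec (.of Ω) ⟶ S} {U : S.Etale}
    (l : Spec (.of Ω) ⟶ U.left) (hl : l ≫ U.hom = ξ) (a b : sect G ((EtCoh.bc π).obj U))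
    (h : ∀ (Ω' : Type u) [Field Ω'] [IsSepClosed Ω'] (ζ₀ : Spec (.of Ω') ⟶ pullback π ξ)
      (ρ : Spec (.of Ω') ⟶ T) (hρ : (ζ₀ ≫ fibInc π ξ l hl) ≫ ((EtCoh.bc π).obj U).hom = ρ),
      germ G (ζ₀ ≫ fibInc π ξ l hl) hρ a = germ G (ζ₀ ≫ fibInc π ξ l hl) hρ b) :
    germ ((pushSh π).obj G) l hl (toPush π G a) =
      germ ((pushSh π).obj G) l hl (toPush π G b) := by
  obtain ⟨U', i, l', hl', hW⟩ := exists_shrink π l (agree G a b) (isOpen_agree G a b) (by
    intro w hw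
    obtain ⟨p, hp⟩ := exists_fibInc π ξ l hl w hw
    obtain ⟨Ω', _, _, ζ₀, hζ₀⟩ := exists_geomPoint (pullback π ξ) p
    have e : (ζ₀ ≫ fibInc π ξ l hl) default = w := by
      rw [Scheme.Hom.comp_apply, hζ₀, hp]
    rw [← e, mem_agree_iff]
    exact h Ω' ζ₀ _ rfl)
  exact (germ_eq_iff ((pushSh π).obj G) l hl _ _).2
    ⟨U', i, l', hl', map_eq_of_range_subset G ((EtCoh.bc π).map i) a b hW⟩

end Push

section Main

variable {X S X' S' : Scheme.{u}} (f : X ⟶ S) (g : S' ⟶ S) (f' : X' ⟶ S') (g' : X' ⟶ X)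
  (w : g' ≫ f = f' ≫ g) {Ω : Type u} [Field Ω] [IsSepClosed Ω]

theorem bcSq_eq_sq (U : S.Etale) : bcSq f g f' g' w U = sq f g f' g' w U := rfl

theorem bcSq_fst_fst (U : S.Etale) :
    (bcSq f g f' g' w U).left ≫ bcFst g' ((EtCoh.bc f).obj U) ≫ bcFst f U =
      bcFst f' ((EtCoh.bc g).obj U) ≫ bcFst g U :=
  sq_fst_fst f g f' g' w U

theorem bcSq_hom (U : S.Etale) :
    (bcSq f g f' g' w U).left ≫ ((EtCoh.bc g').obj ((EtCoh.bc f).obj U)).hom =
      ((EtCoh.bc f').obj ((EtCoh.bc g).obj U)).hom :=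
  Over.w (bcSq f g f' g' w U).hom

/-- The base change morphism on stalks. -/
theorem mapStk_baseChange0Sh (F : Sh X) (η : Spec (.of Ω) ⟶ S') {U : S.Etale}
    (l : Spec (.of Ω) ⟶ U.left) (hl : l ≫ U.hom = η ≫ g) (s : sect F ((EtCoh.bc f).obj U)) :
    mapStk (EtBC.baseChange0Sh f g f' g' w F) η
      (pullStk g ((pushSh f).obj F) η (germ ((pushSh f).obj F) l hl (toPush f F s))) =
    germ ((pushSh f').obj ((pullSh g').obj F)) (bcPt g η l hl) (bcPt_hom g η l hl)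
      (toPush f' _ (((pullSh g').obj F).obj.map (bcSq f g f' g' w U).op
        (pullSect g' F s))) := by
  rw [pullStk_germ, mapStk_germ]
  exact congrArg _ (baseChange0Sh_pullSect f g f' g' w F U s)

/-- The point of `U ×_S X` attached to a point of `(U ×_S S') ×_{S'} X'`. -/
theorem germ_bcSq (F : Sh X) {U : S.Etale} (s : sect F ((EtCoh.bc f).obj U))
    (ζ : Spec (.of Ω) ⟶ ((EtCoh.bc f').obj ((EtCoh.bc g).obj U)).left)
    (ρ : Spec (.of Ω) ⟶ X') (hρ : ζ ≫ ((EtCoh.bc f').obj ((EtCoh.bc g).obj U)).hom = ρ)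
    (θ : Spec (.of Ω) ⟶ ((EtCoh.bc f).obj U).left)
    (hθ : θ ≫ ((EtCoh.bc f).obj U).hom = ρ ≫ g')
    (hθ' : θ ≫ bcFst f U = ζ ≫ bcFst f' ((EtCoh.bc g).obj U) ≫ bcFst g U) :
    germ ((pullSh g').obj F) ζ hρ
      (((pullSh g').obj F).obj.map (bcSq f g f' g' w U).op (pullSect g' F s)) =
    pullStk' g' F ρ (ρ ≫ g') rfl (germ F θ hθ s) := by
  rw [pullStk'_germ]
  refine germ_res' _ (bcSq f g f' g' w U) ζ hρ _ _ ?_ _
  apply hom_ext_bc
  · rw [bcPt_fst]
    apply hom_ext_bc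
    · rw [Category.assoc, Category.assoc, bcSq_fst_fst, hθ']
    · rw [Category.assoc, Category.assoc, bc_condition, ← Category.assoc (bcSq f g f' g' w U).left,
        bcSq_hom, ← Category.assoc, hρ, hθ]
  · rw [Category.assoc, bcSq_hom, bcPt_hom, hρ]

omit [IsSepClosed Ω] in
/-- A family of germs over the geometric fibre attached to a section near the fibre. -/
theorem exists_fibFam (sq : IsPullback g' f' f g) (F : Sh X) (η : Spec (.of Ω) ⟶ S') {V : S'.Etale}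
    (m : Spec (.of Ω) ⟶ V.left) (hm : m ≫ V.hom = η)
    (b : sect ((pullSh g').obj F) ((EtCoh.bc f').obj V)) :
    ∃ γ : Fam F (pullback.fst f (η ≫ g)), ∀ {Ω' : Type u} [Field Ω'] [IsSepClosed Ω']
      (ζ : Spec (.of Ω') ⟶ pullback f (η ≫ g)) (ρ : Spec (.of Ω') ⟶ X') (ξ : Spec (.of Ω') ⟶ X)
      (_ : ρ ≫ g' = ξ) (_ : ρ ≫ f' = ζ ≫ pullback.snd f (η ≫ g) ≫ η)
      (h : ζ ≫ pullback.fst f (η ≫ g) = ξ)
      (h' : (ζ ≫ pullback.snd f (η ≫ g) ≫ m) ≫ V.hom = ρ ≫ f') (h'' : ρ ≫ g' = ξ),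
      germ ((pullSh g').obj F) (bcPt f' ρ (ζ ≫ pullback.snd f (η ≫ g) ≫ m) h')
        (bcPt_hom _ _ _ _) b = pullStk' g' F ρ ξ h'' (γ.val ζ ξ h) := by
  let k : pullback f (η ≫ g) ⟶ X' := sq.lift (pullback.fst f (η ≫ g))
    (pullback.snd f (η ≫ g) ≫ η) (by rw [pullback.condition, Category.assoc])
  have hk1 : k ≫ g' = pullback.fst f (η ≫ g) := sq.lift_fst _ _ _
  have hk2 : k ≫ f' = pullback.snd f (η ≫ g) ≫ η := sq.lift_snd _ _ _
  have hc : (pullback.snd f (η ≫ g) ≫ m) ≫ V.hom = k ≫ f' := by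
    rw [Category.assoc, hm, hk2]
  let κ : pullback f (η ≫ g) ⟶ ((EtCoh.bc f').obj V).left :=
    pullback.lift (pullback.snd f (η ≫ g) ≫ m) k hc
  have hκ1 : κ ≫ bcFst f' V = pullback.snd f (η ≫ g) ≫ m := pullback.lift_fst _ _ _
  have hκ2 : κ ≫ ((EtCoh.bc f').obj V).hom = k := pullback.lift_snd _ _ _
  refine ⟨((Fam.ofPullSect (g := g') b).pull κ).congr (by
    rw [← Category.assoc, hκ2, hk1]), ?_⟩
  intro Ω' _ _ ζ ρ ξ hρ1 hρ2 h h' h''
  have hρ : ζ ≫ k = ρ := by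
    apply sq.hom_ext
    · rw [Category.assoc, hk1, h, hρ1]
    · rw [Category.assoc, hk2, hρ2]
  have hpt : ζ ≫ κ = bcPt f' ρ (ζ ≫ pullback.snd f (η ≫ g) ≫ m) h' := by
    apply hom_ext_bc
    · rw [Category.assoc, hκ1, bcPt_fst]
    · rw [Category.assoc, hκ2, bcPt_hom, hρ]
  have e1 : (ζ ≫ κ) ≫ ((EtCoh.bc f').obj V).hom = ρ := by rw [hpt, bcPt_hom]
  have e2 : (ζ ≫ κ) ≫ ((EtCoh.bc f').obj V).hom ≫ g' = ξ := by
    rw [← Category.assoc, e1, h'']
  have key : (((Fam.ofPullSect (g := g') b).pull κ).congr (by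
      rw [← Category.assoc, hκ2, hk1])).val ζ ξ h =
      (pullStk' g' F ρ ξ h'').symm (germ ((pullSh g').obj F) (ζ ≫ κ) e1 b) := by
    refine (Fam.congr_val _ _ _ _ _).trans ?_
    refine (Fam.pull_val _ _ _ _ _ e2).trans ?_
    exact Fam.ofPullSect_val b (ζ ≫ κ) ρ ξ e2 e1 h''
  refine Eq.trans ?_ ((congrArg (pullStk' g' F ρ ξ h'') key).trans
    (Equiv.apply_symm_apply _ _)).symm
  exact germ_congr_pt _ hpt.symm _ _ _

variable [UniversallyClosed f]

theorem mapStk_baseChange0Sh_injective (sq : IsPullback g' f' f g) (F : Sh X)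
    (η : Spec (.of Ω) ⟶ S') :
    Function.Injective (mapStk (EtBC.baseChange0Sh f g f' g' sq.w F) η) := by
  intro σ τ hστ
  obtain ⟨σ, rfl⟩ := (pullStk g ((pushSh f).obj F) η).surjective σ
  obtain ⟨τ, rfl⟩ := (pullStk g ((pushSh f).obj F) η).surjective τ
  obtain ⟨U, l, hl, s, t, rfl, rfl⟩ := exists_germ₂ ((pushSh f).obj F) σ τ
  obtain ⟨s, rfl⟩ := exists_toPush f F s
  obtain ⟨t, rfl⟩ := exists_toPush f F t
  have h1 := (mapStk_baseChange0Sh f g f' g' sq.w F η l hl s).symm.trans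
    (hστ.trans (mapStk_baseChange0Sh f g f' g' sq.w F η l hl t))
  congr 1
  refine germ_push_eq_of_germ_eq f F l hl s t (fun Ω' _ _ ζ₀ ξ hξ => ?_)
  have hξ' : ζ₀ ≫ pullback.fst f (η ≫ g) = ξ := by
    rw [← hξ, Category.assoc, fibInc_hom]
  let ρ : Spec (.of Ω') ⟶ X' := sq.lift ξ (ζ₀ ≫ pullback.snd f (η ≫ g) ≫ η) (by
    rw [← hξ', Category.assoc, pullback.condition]; simp only [Category.assoc])
  have hρ1 : ρ ≫ g' = ξ := sq.lift_fst _ _ _
  have hρ2 : ρ ≫ f' = ζ₀ ≫ pullback.snd f (η ≫ g) ≫ η := sq.lift_snd _ _ _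
  have hc : ((ζ₀ ≫ pullback.snd f (η ≫ g)) ≫ bcPt g η l hl) ≫ ((EtCoh.bc g).obj U).hom =
      ρ ≫ f' := by
    rw [Category.assoc, bcPt_hom, hρ2, Category.assoc]
  have h2 := germ_eq_of_germ_push_eq f' ((pullSh g').obj F) (bcPt g η l hl) (bcPt_hom g η l hl)
    _ _ h1 (ζ₀ ≫ pullback.snd f (η ≫ g)) (bcPt f' ρ _ hc) (bcPt_fst _ _ _ _) ρ
    (bcPt_hom _ _ _ _)
  have aux : ∀ s : sect F ((EtCoh.bc f).obj U),
      germ ((pullSh g').obj F) (bcPt f' ρ _ hc) (bcPt_hom _ _ _ _)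
        (((pullSh g').obj F).obj.map (bcSq f g f' g' sq.w U).op (pullSect g' F s)) =
      pullStk' g' F ρ (ρ ≫ g') rfl (germ F (ζ₀ ≫ fibInc f (η ≫ g) l hl)
        (by rw [hρ1, hξ]) s) := by
    intro s
    refine germ_bcSq f g f' g' sq.w F s _ ρ _ _ _ ?_
    rw [Category.assoc, fibInc_fst, bcPt_fst_assoc, Category.assoc, bcPt_fst, Category.assoc]
  replace h2 := (aux s).symm.trans (h2.trans (aux t))
  have h3 := (pullStk' g' F ρ (ρ ≫ g') rfl).injective h2
  have h4 := congrArg (castStk F hρ1) h3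
  rw [castStk_germ, castStk_germ] at h4
  exact h4

theorem mapStk_baseChange0Sh_surjective (sq : IsPullback g' f' f g) (hBC : BCsurj f) (F : Sh X)
    (η : Spec (.of Ω) ⟶ S') :
    Function.Surjective (mapStk (EtBC.baseChange0Sh f g f' g' sq.w F) η) := by
  intro τ
  have huc : UniversallyClosed f' := MorphismProperty.of_isPullback sq inferInstance
  obtain ⟨V, m, hm, b, rfl⟩ := exists_germ ((pushSh f').obj ((pullSh g').obj F)) τ
  obtain ⟨b, rfl⟩ := exists_toPush f' ((pullSh g').obj F) b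
  obtain ⟨γ, hγ⟩ := exists_fibFam f g f' g' sq F η m hm b
  obtain ⟨U, l, hl, a, ha⟩ := hBC F Ω (η ≫ g) γ
  refine ⟨pullStk g ((pushSh f).obj F) η (germ ((pushSh f).obj F) l hl (toPush f F a)), ?_⟩
  rw [mapStk_baseChange0Sh]
  obtain ⟨W, p, q, n, hn, hnp, hnq⟩ := exists_common_nhd (bcPt g η l hl) (bcPt_hom g η l hl) m hm
  rw [← germ_res' ((pushSh f').obj ((pullSh g').obj F)) p n hn _ _ hnp,
    ← germ_res' ((pushSh f').obj ((pullSh g').obj F)) q n hn _ _ hnq, toPush_res, toPush_res]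
  refine germ_push_eq_of_germ_eq f' ((pullSh g').obj F) n hn _ _ (fun Ω' _ _ ζ₀ ρ hρ => ?_)
  have hρ' : ζ₀ ≫ pullback.fst f' η = ρ := by
    rw [← hρ, Category.assoc, fibInc_hom]
  -- the corresponding point of the geometric fibre of `f`
  let ζ : Spec (.of Ω') ⟶ pullback f (η ≫ g) := pullback.lift (ρ ≫ g') (ζ₀ ≫ pullback.snd f' η)
    (by
      rw [Category.assoc, sq.w, ← hρ', Category.assoc, ← Category.assoc _ f' g,
        pullback.condition]
      simp only [Category.assoc])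
  have hζ1 : ζ ≫ pullback.fst f (η ≫ g) = ρ ≫ g' := pullback.lift_fst _ _ _
  have hζ2 : ζ ≫ pullback.snd f (η ≫ g) = ζ₀ ≫ pullback.snd f' η := pullback.lift_snd _ _ _
  have hρf : ρ ≫ f' = ζ ≫ pullback.snd f (η ≫ g) ≫ η := by
    rw [← hρ', Category.assoc, pullback.condition, reassoc_of% hζ2]
  have hcm : (ζ ≫ pullback.snd f (η ≫ g) ≫ m) ≫ V.hom = ρ ≫ f' := by
    rw [hρf, Category.assoc, Category.assoc, hm]
  have hcl : (ζ ≫ pullback.snd f (η ≫ g) ≫ l) ≫ U.hom = (ρ ≫ g') ≫ f := by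
    rw [Category.assoc, Category.assoc, hl, Category.assoc, sq.w, ← Category.assoc ρ, hρf]
    simp only [Category.assoc]
  have hcp : ((ζ₀ ≫ pullback.snd f' η) ≫ bcPt g η l hl) ≫ ((EtCoh.bc g).obj U).hom = ρ ≫ f' := by
    rw [Category.assoc, bcPt_hom, hρf, ← hζ2, Category.assoc]
  -- first section
  have k1 : germ ((pullSh g').obj F) (ζ₀ ≫ fibInc f' η n hn) hρ
      (((pullSh g').obj F).obj.map ((EtCoh.bc f').map p).op
        (((pullSh g').obj F).obj.map (bcSq f g f' g' sq.w U).op (pullSect g' F a))) =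
      pullStk' g' F ρ (ρ ≫ g') rfl (γ.val ζ (ρ ≫ g') hζ1) := by
    rw [germ_res' _ ((EtCoh.bc f').map p) _ _ (bcPt f' ρ _ hcp) (bcPt_hom _ _ _ _) (by
      apply hom_ext_bc
      · rw [Category.assoc, bc_map_fst, Category.assoc, fibInc_fst_assoc, bcPt_fst, hnp,
          Category.assoc]
      · rw [Category.assoc, bc_map_hom, hρ, bcPt_hom])]
    rw [ha ζ (ρ ≫ g') hζ1 hcl]
    refine germ_bcSq f g f' g' sq.w F a _ ρ _ _ _ ?_
    rw [bcPt_fst, bcPt_fst_assoc, Category.assoc, bcPt_fst, reassoc_of% hζ2, Category.assoc]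
  -- second section
  have k2 : germ ((pullSh g').obj F) (ζ₀ ≫ fibInc f' η n hn) hρ
      (((pullSh g').obj F).obj.map ((EtCoh.bc f').map q).op b) =
      pullStk' g' F ρ (ρ ≫ g') rfl (γ.val ζ (ρ ≫ g') hζ1) := by
    rw [germ_res' _ ((EtCoh.bc f').map q) _ _ (bcPt f' ρ _ hcm) (bcPt_hom _ _ _ _) (by
      apply hom_ext_bc
      · rw [Category.assoc, bc_map_fst, Category.assoc, fibInc_fst_assoc, bcPt_fst, hnq,
          reassoc_of% hζ2]
      · rw [Category.assoc, bc_map_hom, hρ, bcPt_hom])]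
    exact hγ ζ ρ (ρ ≫ g') rfl hρf hζ1 hcm rfl
  exact k1.trans k2.symm

/-- **Base change for sheaves of sets** along a universally closed morphism for which sections over
geometric fibres extend to étale neighbourhoods. -/
theorem isIso_baseChange0Sh_of_bcsurj (sq : IsPullback g' f' f g) (hBC : BCsurj f) (F : Sh X) :
    IsIso (EtBC.baseChange0Sh f g f' g' sq.w F) := by
  refine isIso_of_stk _ (fun x => ?_)
  obtain ⟨Ω, _, _, η, hη⟩ := exists_geomPoint S' x
  exact ⟨Ω, inferInstance, inferInstance, η, hη,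
    mapStk_baseChange0Sh_injective f g f' g' sq F η,
    mapStk_baseChange0Sh_surjective f g f' g' sq hBC F η⟩

end Main

end Groth.Agent.Etbc.H235.BCSets
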