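import Groth.Agent.Etbc.H235.BCSec

/-!
# Descent of (injectivity / bijectivity of) pullback of global sections along a surjective morphism
-/

set_option autoImplicit false
universe u

open CategoryTheory CategoryTheory.Limits AlgebraicGeometry Opposite

namespace Groth.Agent.Etbc.H235.DescSec

open EtDesc Groth.Agent.Sga4A.EtStalk Groth.Agent.Etbc.H235.SecPull Groth.Agent.Etbc.H235.BCSec

section Surj

variable {X Xb : Scheme.{u}} (p : Xb ⟶ X)

theorem bcFst_surjective (hp : Function.Surjective p.base) (U : X.Etale) :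
    Function.Surjective (bcFst p U) := by
  have h1 : Surjective p := ⟨hp⟩
  have h2 : Surjective (bcFst p U) := by
    have : Surjective (pullback.fst U.hom p) := inferInstance
    exact this
  exact (bcFst p U).surjective

/-- The unit `F ⟶ p_* p^* F` is injective on sections for `p` surjective. -/
theorem unit_app_injective (hp : Function.Surjective p.base) (F : Sh X) (U : X.Etale) :
    Function.Injective (((adjSh p).unit.app F).hom.app (op U)) :=
  pullSect_injective p F (bcFst_surjective p hp U)

theorem secPull_injective_of_surjective (hp : Function.Surjective p.base) (F : Sh X) :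
    Function.Injective (secPull p F) := by
  intro s t h
  rw [secPull_eq, secPull_eq] at h
  have h2 := congrArg (((pullSh p).obj F).obj.map (EtCore.bcTopIso p).hom.op) h
  rw [map_bcTopIso_hom_inv, map_bcTopIso_hom_inv] at h2
  exact pullSect_injective p F (bcFst_surjective p hp _) h2

end Surj

variable {X Y Xb Yb : Scheme.{u}} (h : Y ⟶ X) (p : Xb ⟶ X)
    (hb : Yb ⟶ Xb) (pY : Yb ⟶ Y) (w : hb ≫ p = pY ≫ h)

include w in
theorem secPull_secPull_eq (F : Sh X) (s t : sect F (EtCoh.top X))
    (hst : secPull h F s = secPull h F t) :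
    secPull hb ((pullSh p).obj F) (secPull p F s) =
      secPull hb ((pullSh p).obj F) (secPull p F t) := by
  refine secPull_ext _ _ _ (fun Ω _ _ ξ => ?_)
  have e : (ξ ≫ hb) ≫ p = (ξ ≫ pY) ≫ h := by rw [Category.assoc, w, Category.assoc]
  have key : germTop F ((ξ ≫ pY) ≫ h) s = germTop F ((ξ ≫ pY) ≫ h) t := by
    apply (pullStk' h F (ξ ≫ pY) ((ξ ≫ pY) ≫ h) rfl).injective
    rw [← germTop_secPull' h F s, ← germTop_secPull' h F t, hst]
  rw [germTop_secPull' hb _ _ ξ (ξ ≫ hb) rfl, germTop_secPull' hb _ _ ξ (ξ ≫ hb) rfl,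
    germTop_secPull' p F s (ξ ≫ hb) ((ξ ≫ pY) ≫ h) e,
    germTop_secPull' p F t (ξ ≫ hb) ((ξ ≫ pY) ≫ h) e, key]

include w in
theorem injective_of_injective (hp : Function.Surjective p.base)
    (hinj : ∀ Fb : Sh Xb, Function.Injective (secPull hb Fb)) (F : Sh X) :
    Function.Injective (secPull h F) := by
  intro s t hst
  exact secPull_injective_of_surjective p hp F
    (hinj _ (secPull_secPull_eq h p hb pY w F s t hst))

/-- For sheaves of the form `p_* F̄`. -/
theorem surjective_pushSh (hsurj : ∀ Fb : Sh Xb, Function.Surjective (secPull hb Fb)) (Fb : Sh Xb)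
    (hm : Mono (EtBC.baseChange0Sh p h pY hb w Fb)) :
    Function.Surjective (secPull h ((pushSh p).obj Fb)) := by
  intro t
  obtain ⟨s, hs⟩ := hsurj Fb (((pullSh hb).obj Fb).obj.map (EtCore.bcTopIso pY).inv.op
    ((EtBC.baseChange0Sh p h pY hb w Fb).hom.app (op (EtCoh.top Y)) t))
  refine ⟨Fb.obj.map (EtCore.bcTopIso p).hom.op s, ?_⟩
  apply app_injective_of_mono (EtBC.baseChange0Sh p h pY hb w Fb) (EtCoh.top Y)
  refine (baseChange0Sh_secPull p h pY hb w Fb s).trans ?_
  rw [hs]
  exact map_bcTopIso_hom_inv pY ((pullSh hb).obj Fb)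
    ((EtBC.baseChange0Sh p h pY hb w Fb).hom.app (op (EtCoh.top Y)) t)

/-- If `F` is a subsheaf of `G`, pullback of sections is injective for all sheaves and surjective
for `G`, it is surjective for `F`. -/
theorem surjective_of_mono {F G : Sh X} (a : F ⟶ G) [Mono a]
    (hinj : ∀ Z : Sh X, Function.Injective (secPull h Z))
    (hG : Function.Surjective (secPull h G)) : Function.Surjective (secPull h F) := by
  intro t
  obtain ⟨Z, l, r, hlr, hreg⟩ := exists_regular a
  obtain ⟨s, hs⟩ := hG (((pullSh h).map a).hom.app (op (EtCoh.top Y)) t)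
  have e : l.hom.app (op (EtCoh.top X)) s = r.hom.app (op (EtCoh.top X)) s := by
    apply hinj Z
    rw [secPull_naturality, secPull_naturality, hs]
    have e1 : (pullSh h).map a ≫ (pullSh h).map l = (pullSh h).map a ≫ (pullSh h).map r := by
      rw [← Functor.map_comp, ← Functor.map_comp, hlr]
    exact congrArg (fun (b : (pullSh h).obj F ⟶ (pullSh h).obj Z) =>
      b.hom.app (op (EtCoh.top Y)) t) e1
  obtain ⟨s₀, rfl⟩ := hreg (EtCoh.top X) s e
  refine ⟨s₀, ?_⟩
  apply app_injective_pullSh h a (app_injective_of_mono a) (EtCoh.top Y)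
  rw [← secPull_naturality, hs]

/-- **Descent of bijectivity.** -/
theorem bijective_of_bijective (hp : Function.Surjective p.base)
    (hbij : ∀ Fb : Sh Xb, Function.Bijective (secPull hb Fb))
    (hm : ∀ Fb : Sh Xb, Mono (EtBC.baseChange0Sh p h pY hb w Fb)) (F : Sh X) :
    Function.Bijective (secPull h F) := by
  have hinj : ∀ Z : Sh X, Function.Injective (secPull h Z) :=
    injective_of_injective h p hb pY w hp (fun Fb => (hbij Fb).1)
  refine ⟨hinj F, ?_⟩
  have : Mono ((adjSh p).unit.app F) := mono_of_app_injective _ (unit_app_injective p hp F)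
  exact surjective_of_mono h ((adjSh p).unit.app F) hinj
    (surjective_pushSh h p hb pY w (fun Fb => (hbij Fb).2) _ (hm _))

end Groth.Agent.Etbc.H235.DescSec
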