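import Groth.Agent.Sga4A.EtDescFF
import Groth.Prelude.Def_EtBCD
import Mathlib.CategoryTheory.Topos.Sheaf
import Mathlib.CategoryTheory.Limits.Types.Equalizers

/-!
# Pullback of global sections of étale sheaves of sets: naturality, base change, descent

Main results:
* `secPull_naturality`: `secPull` is natural in the sheaf.
* `app_injective_pullSh`: inverse image preserves injectivity of morphisms of sheaves.
* `baseChange0Sh_secPull`: the composite `Γ(X, p_* F̄) ⟶ Γ(Y, h^* p_* F̄) ⟶ Γ(Y, p_{Y*} h̄^* F̄)` is
  `Γ(X̄, F̄) ⟶ Γ(Ȳ, h̄^* F̄)`.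
* `exists_regular`: every monomorphism of étale sheaves of sets is an equalizer, on sections.
-/

set_option autoImplicit false
universe u

open CategoryTheory CategoryTheory.Limits AlgebraicGeometry Opposite

namespace Groth.Agent.Etbc.H235.SecPull

open EtDesc Groth.Agent.Sga4A.EtStalk

section Nat

variable {X Y : Scheme.{u}} (f : X ⟶ Y)

/-- `secPull` is natural in the sheaf. -/
theorem secPull_naturality {F G : Sh Y} (a : F ⟶ G) (s : sect F (EtCoh.top Y)) :
    secPull f G (a.hom.app (op (EtCoh.top Y)) s) =
      ((pullSh f).map a).hom.app (op (EtCoh.top X)) (secPull f F s) := by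
  rw [secPull_eq, secPull_eq, pullSect_map]
  exact (ConcreteCategory.congr_hom
    (((pullSh f).map a).hom.naturality (EtCore.bcTopIso f).inv.op) (pullSect f F s)).symm

/-- Stalk maps of a morphism which is injective on sections are injective. -/
theorem mapStk_injective {F G : Sh X} (a : F ⟶ G)
    (h : ∀ U : X.Etale, Function.Injective (a.hom.app (op U)))
    {Ω : Type u} [Field Ω] [IsSepClosed Ω] (ξ : Spec (.of Ω) ⟶ X) :
    Function.Injective (mapStk a ξ) := by
  intro σ τ hστ
  obtain ⟨U, l, hl, s, t, rfl, rfl⟩ := exists_germ₂ F σ τ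
  rw [mapStk_germ, mapStk_germ, germ_eq_iff] at hστ
  obtain ⟨V, g, m, hm, e⟩ := hστ
  refine (germ_eq_iff F l hl s t).2 ⟨V, g, m, hm, h V ?_⟩
  have nat : ∀ s : sect F U, a.hom.app (op V) (F.obj.map g.op s) =
      G.obj.map g.op (a.hom.app (op U) s) :=
    fun s => ConcreteCategory.congr_hom (a.hom.naturality g.op) s
  rw [nat, nat, e]

/-- Inverse image preserves injectivity on sections. -/
theorem app_injective_pullSh {F G : Sh Y} (a : F ⟶ G)
    (h : ∀ U : Y.Etale, Function.Injective (a.hom.app (op U))) (V : X.Etale) :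
    Function.Injective (((pullSh f).map a).hom.app (op V)) := by
  refine app_injective_of_stk _ (fun x => ?_) V
  obtain ⟨Ω, _, _, ξ, hξ⟩ := exists_geomPoint X x
  refine ⟨Ω, inferInstance, inferInstance, ξ, hξ, ?_⟩
  have e : mapStk ((pullSh f).map a) ξ =
      pullStk f G ξ ∘ mapStk a (ξ ≫ f) ∘ (pullStk f F ξ).symm := by
    funext σ
    simp only [Function.comp_apply]
    rw [pullStk_mapStk, Equiv.apply_symm_apply]
  rw [e]
  exact (Equiv.injective _).comp ((mapStk_injective a h _).comp (Equiv.injective _))

end Nat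

section Mono

variable {X : Scheme.{u}}

/-- A monomorphism of sheaves of sets is injective on sections. -/
theorem app_injective_of_mono {F G : Sh X} (a : F ⟶ G) [Mono a] (U : X.Etale) :
    Function.Injective (a.hom.app (op U)) := by
  have h1 : Mono ((sheafToPresheaf X.smallEtaleTopology (Type (u + 1))).map a) := inferInstance
  have h2 : Mono a.hom := h1
  have h3 : Mono (a.hom.app (op U)) := inferInstance
  exact (mono_iff_injective _).1 h3

/-- A morphism of sheaves of sets which is injective on sections is a monomorphism. -/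
theorem mono_of_app_injective {F G : Sh X} (a : F ⟶ G)
    (h : ∀ U : X.Etale, Function.Injective (a.hom.app (op U))) : Mono a := by
  have : ∀ U, Mono (a.hom.app U) := fun U => (mono_iff_injective _).2 (h U.unop)
  have h2 : Mono a.hom := NatTrans.mono_of_mono_app _
  have h3 : Mono ((sheafToPresheaf X.smallEtaleTopology (Type (u + 1))).map a) := h2
  exact (sheafToPresheaf X.smallEtaleTopology (Type (u + 1))).mono_of_mono_map h3

/-- Every monomorphism of étale sheaves of sets is an equalizer: there are a sheaf `Z` and a pair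
of morphisms `G ⇉ Z` such that a section of `G` comes from `F` iff its two images coincide. -/
theorem exists_regular {F G : Sh X} (a : F ⟶ G) [Mono a] :
    ∃ (Z : Sh X) (l r : G ⟶ Z), a ≫ l = a ≫ r ∧ ∀ (U : X.Etale) (s : sect G U),
      l.hom.app (op U) s = r.hom.app (op U) s → ∃ s₀ : sect F U, a.hom.app (op U) s₀ = s := by
  have hC : HasSubobjectClassifier (Sheaf X.smallEtaleTopology (Type (u + 1))) :=
    ⟨⟨Sheaf.classifier X.smallEtaleTopology⟩⟩
  let R : RegularMono a := regularMonoOfMono a
  refine ⟨R.Z, R.left, R.right, R.w, fun U s hs => ?_⟩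
  let Φ : Sh X ⥤ Type (u + 1) :=
    sheafToPresheaf X.smallEtaleTopology (Type (u + 1)) ⋙ (evaluation _ _).obj (op U)
  have hl : IsLimit (Fork.ofι (f := Φ.map R.left) (g := Φ.map R.right) (Φ.map a)
    (by rw [← Φ.map_comp, ← Φ.map_comp, R.w])) :=
    isLimitForkMapOfIsLimit Φ R.w R.isLimit
  obtain ⟨s₀, hs₀, -⟩ := (Types.type_equalizer_iff_unique _ _).1 ⟨hl⟩ s hs
  exact ⟨s₀, hs₀⟩

end Mono

end Groth.Agent.Etbc.H235.SecPull
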